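import Groth.Agent.UnifNoethLib.Nagata
import Groth.Agent.ProConsLib.Top
import Groth.Agent.RichLib.FibreLoci
import Groth.Agent.CommAlgDim.Integral
import Groth.Agent.FibDimLib.QFAffine

/-! Quasi-finite maps from polynomial rings in as many variables as the fibre dimension. -/

set_option autoImplicit false
set_option linter.style.haveILetI false
universe u

open MvPolynomial TensorProduct Topology Groth.Agent.ProConsLib

namespace UnifNoethLib

variable {R S : Type u} [CommRing R] [CommRing S] [Algebra R S]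

/-- the polynomial map to a fibre -/
noncomputable def fAeval (p : PrimeSpectrum R) {m : ℕ} (v : Fin m → S) :
    MvPolynomial (Fin m) p.asIdeal.ResidueField →ₐ[p.asIdeal.ResidueField] p.asIdeal.Fiber S :=
  MvPolynomial.aeval fun i => (1 : p.asIdeal.ResidueField) ⊗ₜ[R] v i

/-- integral on every fibre -/
def FF {m : ℕ} (v : Fin m → S) : Prop :=
  ∀ p : PrimeSpectrum R, (fAeval (R := R) p v).toRingHom.IsIntegral

theorem fAeval_map (p : PrimeSpectrum R) {m : ℕ} (v : Fin m → S) (G : MvPolynomial (Fin m) R) :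
    fAeval p v (MvPolynomial.map (algebraMap R p.asIdeal.ResidueField) G) =
      (1 : p.asIdeal.ResidueField) ⊗ₜ[R] (MvPolynomial.aeval v G) := by
  induction G using MvPolynomial.induction_on with
  | C a =>
    simp only [fAeval, map_C, aeval_C, Algebra.TensorProduct.algebraMap_apply, Algebra.algebraMap_self, RingHom.id_apply]
    rw [Algebra.algebraMap_eq_smul_one, Algebra.algebraMap_eq_smul_one, TensorProduct.smul_tmul]
  | add x y hx hy => simp [hx, hy, TensorProduct.tmul_add]
  | mul_X x i hx =>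
    rw [map_mul, map_mul, hx, map_X, map_mul, MvPolynomial.aeval_X]
    simp [fAeval]

/-- the kernel of the map to a fibre, up to powers -/
theorem exists_pow_mul_mem (p : PrimeSpectrum R) (s : S)
    (h : (1 : p.asIdeal.ResidueField) ⊗ₜ[R] s = 0) :
    ∃ (k : ℕ) (r : R), r ∉ p.asIdeal ∧ algebraMap R S r * s ^ k ∈ p.asIdeal.map (algebraMap R S) := by
  by_contra hc
  push Not at hc
  let M : Submonoid S :=
    { carrier := {x | ∃ (k : ℕ) (r : R), r ∉ p.asIdeal ∧ x = algebraMap R S r * s ^ k}
      one_mem' := ⟨0, 1, p.2.one_notMem, by simp⟩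
      mul_mem' := by
        rintro _ _ ⟨k, r, hr, rfl⟩ ⟨l, t, ht, rfl⟩
        exact ⟨k + l, r * t, fun h => (p.2.mem_or_mem h).elim hr ht, by rw [map_mul, pow_add]; ring⟩ }
  have hdisj : Disjoint (p.asIdeal.map (algebraMap R S) : Set S) (M : Set S) := by
    rw [Set.disjoint_right]
    rintro _ ⟨k, r, hr, rfl⟩
    exact hc k r hr
  obtain ⟨Q, hQp, hle, hQd⟩ := Ideal.exists_le_prime_disjoint _ M hdisj
  rw [Set.disjoint_left] at hQd
  have hover : p.asIdeal = Q.comap (algebraMap R S) := by
    refine le_antisymm (Ideal.map_le_iff_le_comap.mp hle) fun r hr => ?_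
    by_contra hn
    exact hQd hr ⟨0, r, hn, by simp⟩
  have hs : s ∉ Q := fun hs => hQd hs ⟨1, 1, p.2.one_notMem, by simp⟩
  let Ψ : p.asIdeal.Fiber S →ₐ[R] Q.ResidueField := Algebra.TensorProduct.lift
    (Ideal.ResidueField.mapₐ p.asIdeal Q (Algebra.ofId R S) hover) (IsScalarTower.toAlgHom R S Q.ResidueField)
    (fun _ _ => Commute.all _ _)
  have := congrArg Ψ h
  simp only [Ψ, Algebra.TensorProduct.lift_tmul, map_one, one_mul, map_zero, IsScalarTower.coe_toAlgHom'] at this
  exact hs (Ideal.algebraMap_residueField_eq_zero.mp this)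

theorem ff_of_range {n : ℕ} (v : Fin n → S) (hv : Algebra.adjoin R (Set.range v) = ⊤) : FF (R := R) v := by
  intro p
  refine (RingHom.Finite.of_surjective _ fun x => ?_).to_isIntegral
  induction x using TensorProduct.induction_on with
  | zero => exact ⟨0, map_zero _⟩
  | add a b ha hb =>
    obtain ⟨a', ha⟩ := ha
    obtain ⟨b', hb⟩ := hb
    exact ⟨a' + b', by rw [map_add, ha, hb]⟩
  | tmul c s =>
    have hs : s ∈ (MvPolynomial.aeval v : MvPolynomial (Fin n) R →ₐ[R] S).range := by
      rw [← Algebra.adjoin_range_eq_range_aeval, hv]; trivial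
    obtain ⟨G, rfl⟩ := hs
    refine ⟨MvPolynomial.C c * MvPolynomial.map (algebraMap R p.asIdeal.ResidueField) G, ?_⟩
    show fAeval p v _ = _
    rw [map_mul, fAeval_map]
    simp [fAeval, Algebra.TensorProduct.algebraMap_apply]

theorem exists_kernel_elem (p : PrimeSpectrum R) {m : ℕ} (v : Fin (m + 1) → S) (hv : FF (R := R) v)
    (hd : ringKrullDim (p.asIdeal.Fiber S) ≤ (m : WithBot ℕ∞)) :
    ∃ g : MvPolynomial (Fin (m + 1)) R, MvPolynomial.map (algebraMap R p.asIdeal.ResidueField) g ≠ 0 ∧
      fAeval p v (MvPolynomial.map (algebraMap R p.asIdeal.ResidueField) g) = 0 := by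
  have hninj : ¬ Function.Injective (fAeval p v) := by
    intro hinj
    letI := (fAeval p v).toRingHom.toAlgebra
    haveI : Algebra.IsIntegral (MvPolynomial (Fin (m + 1)) p.asIdeal.ResidueField) (p.asIdeal.Fiber S) :=
      ⟨hv p⟩
    have h := CommAlgDim.ringKrullDim_eq_of_integral (MvPolynomial (Fin (m + 1)) p.asIdeal.ResidueField) (p.asIdeal.Fiber S) hinj
    rw [h, MvPolynomial.ringKrullDim_of_isNoetherianRing, ringKrullDim_eq_zero_of_field, zero_add, Nat.card_fin] at hd
    norm_cast at hd
    omega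
  rw [injective_iff_map_eq_zero] at hninj
  push Not at hninj
  obtain ⟨q, hq, hq0⟩ := hninj
  obtain ⟨r, hr, G, hG⟩ := FibDimLib.exists_smul_mem_range_map p.asIdeal (Fin (m + 1)) q
  refine ⟨G, ?_, ?_⟩
  · rw [hG]
    refine mul_ne_zero ?_ hq0
    simpa [Ideal.algebraMap_residueField_eq_zero] using hr
  · rw [hG, map_mul, hq, mul_zero]

open UnifNoethLib.Nagata in
theorem step {m : ℕ} (v : Fin (m + 1) → S) (hv : FF (R := R) v)
    (hd : ∀ p : PrimeSpectrum R, ringKrullDim (p.asIdeal.Fiber S) ≤ (m : WithBot ℕ∞)) :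
    ∃ u : Fin m → S, FF (R := R) u := by
  classical
  -- for each prime a polynomial and a constructible neighbourhood
  have key : ∀ p : PrimeSpectrum R, ∃ (g : MvPolynomial (Fin (m + 1)) R) (C : Set (PrimeSpectrum R)),
      IsConstructible C ∧ p ∈ C ∧ ∀ p' ∈ C, MvPolynomial.map (algebraMap R p'.asIdeal.ResidueField) g ≠ 0 ∧
        fAeval p' v (MvPolynomial.map (algebraMap R p'.asIdeal.ResidueField) g) = 0 := by
    intro p
    obtain ⟨g₀, hg₀, hg₀0⟩ := exists_kernel_elem p v hv (hd p)
    rw [fAeval_map] at hg₀0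
    obtain ⟨k, r, hr, hmem⟩ := exists_pow_mul_mem p _ hg₀0
    obtain ⟨T, hT, hmemT⟩ := Submodule.mem_span_finite_of_mem_span hmem
    choose t ht hts using fun x : T => hT x.2
    obtain ⟨a, ha⟩ : ∃ a, algebraMap R p.asIdeal.ResidueField (MvPolynomial.coeff a (g₀ ^ k)) ≠ 0 := by
      have h := pow_ne_zero k hg₀
      rw [← map_pow] at h
      obtain ⟨a, ha⟩ := MvPolynomial.exists_coeff_ne_zero h
      exact ⟨a, by rwa [MvPolynomial.coeff_map] at ha⟩
    set b : R := r * MvPolynomial.coeff a (g₀ ^ k)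
    refine ⟨g₀ ^ k, (PrimeSpectrum.basicOpen b : Set (PrimeSpectrum R)) ∩ PrimeSpectrum.zeroLocus (Set.range t), ?_, ?_, ?_⟩
    · refine IsConstructible.inter PrimeSpectrum.isConstructible_basicOpen ?_
      rw [← PrimeSpectrum.zeroLocus_span]
      exact ((PrimeSpectrum.isRetrocompact_zeroLocus_compl_of_fg ⟨(Set.finite_range t).toFinset, by simp⟩).isConstructible
        (PrimeSpectrum.isClosed_zeroLocus _).isOpen_compl).of_compl
    · refine ⟨fun h => (p.2.mem_or_mem h).elim hr fun h => ha (Ideal.algebraMap_residueField_eq_zero.mpr h), ?_⟩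
      rintro _ ⟨x, rfl⟩
      exact ht x
    · rintro p' ⟨hb, hz⟩
      have hr' : r ∉ p'.asIdeal := fun h => hb (p'.asIdeal.mul_mem_right _ h)
      have ha' : MvPolynomial.coeff a (g₀ ^ k) ∉ p'.asIdeal := fun h => hb (p'.asIdeal.mul_mem_left _ h)
      refine ⟨fun h => ha' (Ideal.algebraMap_residueField_eq_zero.mp (by rw [← MvPolynomial.coeff_map, h, MvPolynomial.coeff_zero])), ?_⟩
      rw [fAeval_map, map_pow]
      let ι : S →ₐ[R] p'.asIdeal.Fiber S := Algebra.TensorProduct.includeRight
      have hker : Submodule.span S (T : Set S) ≤ RingHom.ker ι.toRingHom := by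
        rw [Submodule.span_le]
        intro x hx
        show ι x = 0
        rw [show x = algebraMap R S (t ⟨x, hx⟩) from (hts ⟨x, hx⟩).symm, AlgHom.commutes, IsScalarTower.algebraMap_apply R p'.asIdeal.ResidueField,
          Ideal.algebraMap_residueField_eq_zero.mpr (hz ⟨_, rfl⟩), map_zero]
      have h0 : ι (algebraMap R S r * aeval v g₀ ^ k) = 0 := hker hmemT
      rw [map_mul, AlgHom.commutes, IsScalarTower.algebraMap_apply R p'.asIdeal.ResidueField] at h0
      exact (((Ne.isUnit (a := algebraMap R p'.asIdeal.ResidueField r) (fun h => hr' (Ideal.algebraMap_residueField_eq_zero.mp h))).map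
        (algebraMap p'.asIdeal.ResidueField (p'.asIdeal.Fiber S))).mul_right_eq_zero).mp h0
  choose g C hC hpC hg using key
  obtain ⟨t, htcov⟩ := @IsCompact.elim_finite_subcover (PrimeSpectrum R) (constructibleTopology _) Set.univ
    (PrimeSpectrum R) (@isCompact_univ _ (constructibleTopology _) compactSpace_cons) C
    (fun p => (isClopen_cons_of_isConstructible (hC p)).2) (fun p _ => Set.mem_iUnion.mpr ⟨p, hpC p⟩)
  let N : ℕ := t.sup fun p => (g p).totalDegree
  let e : Fin m → ℕ := fun i => (2 + N) ^ (i.succ : Fin (m + 1)).1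
  refine ⟨fun i => v i.succ - v 0 ^ e i, fun p => ?_⟩
  obtain ⟨p₀, hp₀t, hp₀⟩ := Set.mem_iUnion₂.mp (htcov (Set.mem_univ p))
  obtain ⟨hne, h0⟩ := hg p₀ p hp₀
  set G := MvPolynomial.map (algebraMap R p.asIdeal.ResidueField) (g p₀)
  set κ := p.asIdeal.ResidueField
  obtain ⟨c, hc, hlead⟩ := exists_leadingCoeff_eq_C m N G hne
    ((Finset.sup_mono (MvPolynomial.support_map_subset _ _)).trans (Finset.le_sup (f := fun p => (g p).totalDegree) hp₀t))
  let w : Fin (m + 1) → p.asIdeal.Fiber S := fun i => (1 : κ) ⊗ₜ[R] v i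
  let ψ := fAeval p (fun i => v i.succ - v 0 ^ e i)
  have hψX : ∀ i, ψ (MvPolynomial.X i) = w i.succ - w 0 ^ e i := fun i => by
    simp [ψ, fAeval, w, TensorProduct.tmul_sub, Algebra.TensorProduct.tmul_pow]
  -- the substitution
  let θ : Fin (m + 1) → p.asIdeal.Fiber S := Fin.cases (w 0) fun i => ψ (MvPolynomial.X i)
  have hT : (MvPolynomial.aeval θ).comp (T m N : MvPolynomial (Fin (m + 1)) κ ≃ₐ[κ] _).toAlgHom = fAeval p v := by
    refine MvPolynomial.algHom_ext fun i => ?_
    cases i using Fin.cases with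
    | zero => simp [θ, fAeval, w]
    | succ i =>
      simp [θ, fAeval, hψX, e]
      rfl
  let q := MvPolynomial.finSuccEquiv κ m (T m N G)
  have hq : q.eval₂ ψ.toRingHom (w 0) = 0 := by
    have h1 := congrArg (fun f : _ →ₐ[κ] _ => f G) hT
    simp only [AlgHom.comp_apply, h0] at h1
    refine Eq.trans ?_ h1
    show _ = MvPolynomial.aeval θ (T m N G)
    have h2 : (Polynomial.eval₂RingHom ψ.toRingHom (w 0)).comp (MvPolynomial.finSuccEquiv κ m).toAlgHom.toRingHom =
        (MvPolynomial.aeval θ : MvPolynomial (Fin (m + 1)) κ →ₐ[κ] _).toRingHom := by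
      refine MvPolynomial.ringHom_ext (fun a => ?_) (fun i => ?_)
      · simp [MvPolynomial.finSuccEquiv_apply]
        rfl
      · cases i using Fin.cases with
        | zero => simp [MvPolynomial.finSuccEquiv_X_zero, θ]
        | succ j => simp [MvPolynomial.finSuccEquiv_X_succ, θ]
    exact RingHom.congr_fun h2 (T m N G)
  letI := ψ.toRingHom.toAlgebra
  have hw0 : IsIntegral (MvPolynomial (Fin m) κ) (w 0) := by
    refine ⟨Polynomial.C (MvPolynomial.C c⁻¹) * q, ?_, ?_⟩
    · rw [Polynomial.Monic, Polynomial.leadingCoeff_mul, Polynomial.leadingCoeff_C, hlead, ← map_mul,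
        inv_mul_cancel₀ hc, map_one]
    · rw [Polynomial.eval₂_mul]
      exact mul_eq_zero_of_right _ hq
  have hwi : ∀ i, w i ∈ integralClosure (MvPolynomial (Fin m) κ) (p.asIdeal.Fiber S) := by
    intro i
    cases i using Fin.cases with
    | zero => exact hw0
    | succ i =>
      have : w i.succ = ψ (MvPolynomial.X i) + w 0 ^ e i := by rw [hψX]; exact (sub_add_cancel _ _).symm
      rw [this]
      exact add_mem (Subalgebra.algebraMap_mem _ _) (pow_mem hw0 _)
  intro x
  let B := integralClosure (MvPolynomial (Fin m) κ) (p.asIdeal.Fiber S)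
  have hrange : ∀ G : MvPolynomial (Fin (m + 1)) κ, fAeval p v G ∈ B := by
    intro G
    induction G using MvPolynomial.induction_on with
    | C a =>
      have : fAeval p v (MvPolynomial.C a) = ψ (MvPolynomial.C a) := by simp [ψ, fAeval]
      rw [this]
      exact Subalgebra.algebraMap_mem _ _
    | add x y hx hy => rw [map_add]; exact add_mem hx hy
    | mul_X x i hx =>
      rw [map_mul]
      refine mul_mem hx ?_
      simpa [fAeval, w] using hwi i
  obtain ⟨P, hP, hPx⟩ := hv p x
  haveI : Algebra.IsIntegral (MvPolynomial (Fin m) κ) B := inferInstance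
  have hxB : IsIntegral B x := by
    refine ⟨P.map ((fAeval p v).toRingHom.codRestrict B.toSubring hrange), hP.map _, ?_⟩
    rw [Polynomial.eval₂_map]
    exact hPx
  exact isIntegral_trans x hxB

theorem exists_ff [Algebra.FiniteType R S] (d : ℕ)
    (hd : ∀ p : PrimeSpectrum R, ringKrullDim (p.asIdeal.Fiber S) ≤ (d : WithBot ℕ∞)) :
    ∃ v : Fin d → S, FF (R := R) v := by
  obtain ⟨n, f, hf⟩ := Algebra.FiniteType.iff_quotient_mvPolynomial''.mp (inferInstance : Algebra.FiniteType R S)
  have hn : ∃ v : Fin n → S, FF (R := R) v := ⟨fun i => f (MvPolynomial.X i), ff_of_range _ (by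
    have hfe : (MvPolynomial.aeval fun i => f (MvPolynomial.X i)) = f := MvPolynomial.algHom_ext fun i => by simp
    rw [Algebra.adjoin_range_eq_range_aeval, hfe, eq_top_iff]
    rintro s -
    exact hf s)⟩
  clear hf f
  induction n with
  | zero =>
    obtain ⟨v, hv⟩ := hn
    refine ⟨fun _ => 0, fun p x => ?_⟩
    obtain ⟨P, hP, hPx⟩ := hv p x
    refine ⟨P.map (MvPolynomial.rename (Fin.elim0 : Fin 0 → Fin d)).toRingHom, hP.map _, ?_⟩
    have hh : (fAeval (R := R) p fun _ : Fin d => (0 : S)).toRingHom.comp (MvPolynomial.rename (Fin.elim0 : Fin 0 → Fin d)).toRingHom =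
        (fAeval p v).toRingHom := MvPolynomial.ringHom_ext (fun a => by simp [fAeval]) (fun i => i.elim0)
    rw [Polynomial.eval₂_map, hh]
    exact hPx
  | succ n ih =>
    obtain ⟨v, hv⟩ := hn
    by_cases hdn : d ≤ n
    · exact ih (step v hv fun p => (hd p).trans (by exact_mod_cast hdn))
    · let ι : Fin (n + 1) → Fin d := Fin.castLE (by omega)
      refine ⟨Function.extend ι v 0, fun p x => ?_⟩
      obtain ⟨P, hP, hPx⟩ := hv p x
      refine ⟨P.map (MvPolynomial.rename ι).toRingHom, hP.map _, ?_⟩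
      have hh : (fAeval p (Function.extend ι v 0)).toRingHom.comp (MvPolynomial.rename ι).toRingHom =
          (fAeval p v).toRingHom := MvPolynomial.ringHom_ext (fun a => by simp [fAeval])
        (fun i => by simp [fAeval, ι, (Fin.castLE_injective _).extend_apply])
      rw [Polynomial.eval₂_map, hh]
      exact hPx

theorem exists_quasiFinite [Algebra.FiniteType R S] (d : ℕ)
    (hd : ∀ p : PrimeSpectrum R, ringKrullDim (p.asIdeal.Fiber S) ≤ (d : WithBot ℕ∞)) :
    ∃ φ : MvPolynomial (Fin d) R →ₐ[R] S, φ.toRingHom.QuasiFinite := by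
  obtain ⟨v, hv⟩ := exists_ff d hd
  let φ : MvPolynomial (Fin d) R →ₐ[R] S := MvPolynomial.aeval v
  refine ⟨φ, ?_⟩
  let A := MvPolynomial (Fin d) R
  letI : Algebra A S := φ.toRingHom.toAlgebra
  haveI : IsScalarTower R A S := IsScalarTower.of_algebraMap_eq fun r => (φ.commutes r).symm
  haveI : Algebra.FiniteType A S := Algebra.FiniteType.of_restrictScalars_finiteType R A S
  show Algebra.QuasiFinite A S
  refine ⟨fun P hP => ?_⟩
  let p : PrimeSpectrum R := ⟨P.comap (algebraMap R A), inferInstance⟩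
  haveI : Algebra.FiniteType P.ResidueField (P.Fiber S) := inferInstance
  let ι : S →+* P.Fiber S := (Algebra.TensorProduct.includeRight : S →ₐ[A] P.Fiber S).toRingHom
  let ιR : S →ₐ[R] P.Fiber S := ((Algebra.TensorProduct.includeRight : S →ₐ[A] P.Fiber S).restrictScalars R)
  let κm : p.asIdeal.ResidueField →ₐ[R] P.ResidueField := Ideal.ResidueField.mapₐ p.asIdeal P (Algebra.ofId R A) rfl
  let Ψ : p.asIdeal.Fiber S →ₐ[R] P.Fiber S := Algebra.TensorProduct.lift
    ((IsScalarTower.toAlgHom R P.ResidueField (P.Fiber S)).comp κm) ιR (fun _ _ => Commute.all _ _)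
  let χ : MvPolynomial (Fin d) p.asIdeal.ResidueField →+* P.ResidueField :=
    MvPolynomial.eval₂Hom κm.toRingHom fun i => algebraMap A P.ResidueField (MvPolynomial.X i)
  have hsq : Ψ.toRingHom.comp (fAeval p v).toRingHom = (algebraMap P.ResidueField (P.Fiber S)).comp χ := by
    refine MvPolynomial.ringHom_ext (fun a => ?_) (fun i => ?_)
    · simp [Ψ, fAeval, χ, Algebra.TensorProduct.algebraMap_apply]
    · have h := (Algebra.TensorProduct.includeRight : S →ₐ[A] P.Fiber S).commutes (MvPolynomial.X i)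
      have h2 : algebraMap A S (MvPolynomial.X i) = v i := MvPolynomial.aeval_X v i
      rw [h2] at h
      simpa [Ψ, fAeval, χ, ιR, ← IsScalarTower.algebraMap_apply] using h
  haveI : Algebra.IsIntegral P.ResidueField (P.Fiber S) := ⟨fun y => by
    induction y using TensorProduct.induction_on with
    | zero => exact isIntegral_zero
    | add a b ha hb => exact ha.add hb
    | tmul c s =>
      have hs : IsIntegral P.ResidueField (ι s) := by
        obtain ⟨Pol, hmon, heval⟩ := hv p ((1 : p.asIdeal.ResidueField) ⊗ₜ[R] s)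
        refine ⟨Pol.map χ, hmon.map _, ?_⟩
        have h := congrArg Ψ.toRingHom heval
        rw [Polynomial.hom_eval₂, hsq, map_zero] at h
        rw [Polynomial.eval₂_map]
        have e : Ψ.toRingHom ((1 : p.asIdeal.ResidueField) ⊗ₜ[R] s) = ι s := by simp [Ψ, ιR, ι]
        rw [e] at h
        exact h
      have : c ⊗ₜ[A] s = algebraMap P.ResidueField (P.Fiber S) c * ι s := by
        simp [ι, Algebra.TensorProduct.algebraMap_apply]
      rw [this]
      exact isIntegral_algebraMap.mul hs⟩
  exact Algebra.IsIntegral.finite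

end UnifNoethLib
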